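import Cfsg.Agent.H120.Cyc.DegF4
import Cfsg.Agent.H741.Pd.ChevHeis
import Cfsg.Agent.FastGrp
import Cfsg.Agent.Prune
set_option linter.all false
prune_inst 0x7f00000000000000000000000000000000000000000000000000000000000000000000000000000000000000000000000000000000000000000000000000000000000000000000000000000000000000003fffffffffffffffffffffffffffbeffbdffffffff
open scoped Cfsg.Agent.FastGrp

/-!
# The degrees of `F₄(q)` are at least `q ^ 4 (q ^ 2 - 1)` (helper267)

`W` the weight space of a nontrivial character `ψ` of the highest long root group `X₄₇`: `q ^ 5 ≤ dim W`; in odd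
characteristic by 5 pairs of roots with sum the highest root, in characteristic 2 by 4 pairs of long roots and the
action of `X₃₃`, `X₄₁` on the characters of the short root groups `X₄₀`, `X₂₉`.
-/

set_option autoImplicit false

namespace Cfsg.Agent.H267.ConjF4

open Module Cfsg Cfsg.Lie Cfsg.Agent.ChevalleyStructure.Elts Cfsg.Agent.TitsThree.KExcBase Cfsg.Agent.H120
  Cfsg.Agent.H741.Pd Cfsg.Agent.H122
open scoped commutatorElement

universe u

variable {F : Type u} [Field F]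

/-- Heisenberg data, constants not zero in `F` -/
theorem hd' {D : ChevalleyDatum} (hD : InList D) {k : ℕ} {P : List (ℕ × ℕ × ℤ)} (h : ChevHeis.chkH D k P = true)
    (hN : ∀ p ∈ P, ((p.2.2 : ℤ) : F) ≠ 0) :
    Heis.HD (F := F) (ChevHeis.X hD k) (fun i => ChevHeis.X hD (P.getD i 0).1)
      (fun i => ChevHeis.X hD (P.getD i 0).2.1) (fun i => ((P.getD i 0).2.2 : F)) P.length := by
  simp only [ChevHeis.chkH, Bool.and_eq_true, decide_eq_true_eq, List.all_eq_true, List.mem_range, Bool.or_eq_true,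
    beq_iff_eq] at h
  obtain ⟨⟨hk, h1⟩, h2⟩ := h
  have hmem : ∀ i < P.length, P.getD i 0 ∈ P := by
    intro i hi
    rw [List.getD_eq_getElem _ _ hi]
    exact List.getElem_mem hi
  have hadd : ∀ (r : ℕ) (a b : F), ChevHeis.X hD r (a + b) = ChevHeis.X hD r a * ChevHeis.X hD r b := fun r a b =>
    Subtype.ext (xG_add hD r a b).symm
  have hself : ∀ (r : ℕ) (a b : F), ChevHeis.X hD r a * ChevHeis.X hD r b =
      ChevHeis.X hD r b * ChevHeis.X hD r a := by
    intro r a b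
    rw [← hadd, ← hadd, add_comm]
  refine ⟨hadd k, fun i _ => hadd _, ?_, ?_, ?_, ?_, ?_, ?_⟩
  · intro i hi a b
    exact Subtype.ext (ChevHeis.nil_comm hD (h1 _ (hmem i hi)).1.1.2 a b)
  · intro i hi a b
    exact Subtype.ext (ChevHeis.nil_comm hD (h1 _ (hmem i hi)).1.2 a b)
  · intro i hi j hj a b
    rcases h2 i hi j hj with h3 | h3
    · subst h3
      exact hself _ a b
    · exact Subtype.ext (ChevHeis.nil_comm hD h3.1 a b)
  · intro i hi j hj hij a b
    rcases h2 i hi j hj with h3 | h3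
    · exact absurd h3 hij
    · exact Subtype.ext (ChevHeis.nil_comm hD h3.2 a b)
  · intro i hi a b
    obtain ⟨⟨⟨h3, h4⟩, h5⟩, -⟩ := h1 _ (hmem i hi)
    simp only [ChevHeis.one, Bool.and_eq_true, decide_eq_true_eq] at h3
    have h6 := comm_one (F := F) hD h3.1.1.1.1 h3.1.1.1.2 h3.1.1.2 h3.1.2 h3.2
      (fun t u => (ChevHeis.nil_comm hD h4 u t).symm) (fun t u => (ChevHeis.nil_comm hD h5 u t).symm) a b
    rw [commutatorElement_def, mul_inv_eq_iff_eq_mul, mul_inv_eq_iff_eq_mul] at h6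
    exact Subtype.ext h6
  · intro i hi
    exact hN _ (hmem i hi)

theorem hF4 : InList chevF4 := by simp

/-- the root elements -/
abbrev X (r : ℕ) (a : F) : ↥(chevF4.group F) := ChevHeis.X hF4 r a

theorem X_add (r : ℕ) (a b : F) : X r (a + b) = X r a * X r b := Subtype.ext (xG_add hF4 r a b).symm

theorem X_zero (r : ℕ) : X r (0 : F) = 1 := Subtype.ext (xG_zero hF4 r)

theorem nilc {r s : ℕ} (h : ChevHeis.nil chevF4 r s = true) (a b : F) : X r a * X s b = X s b * X r a :=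
  Subtype.ext (ChevHeis.nil_comm hF4 h a b)

theorem neg_mul_self' (φ : AddChar F ℂ) (t : F) : φ (-t) * φ t = 1 := by
  rw [← AddChar.map_add_eq_mul, neg_add_cancel, AddChar.map_zero_eq_one]

section rep

variable {V : Type*} [AddCommGroup V] [Module ℂ V] (ρ : Representation ℂ ↥(chevF4.group F) V)

/-- the weight space -/
abbrev wtr (r : ℕ) (φ : AddChar F ℂ) : Submodule ℂ V := wt (fun (r : ℕ) (a : F) => ρ (X r a)) r φ

variable {ρ}

theorem mem_wtr {r : ℕ} {φ : AddChar F ℂ} {v : V} : v ∈ wtr ρ r φ ↔ ∀ a, ρ (X r a) v = φ a • v := Iff.rfl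

theorem app_mul {g h g' h' : ↥(chevF4.group F)} (e : g * h = g' * h') (v : V) : ρ g (ρ h v) = ρ g' (ρ h' v) := by
  have h3 := congrArg (fun g => ρ g v) e
  simpa only [map_mul, Module.End.mul_apply] using h3

/-- commuting elements preserve weights -/
theorem wtr_comm {r s : ℕ} {φ : AddChar F ℂ} {v : V} (hv : v ∈ wtr ρ r φ) (b : F)
    (h : ∀ a, X r a * X s b = X s b * X r a) : ρ (X s b) v ∈ wtr ρ r φ := by
  intro a
  show ρ (X r a) (ρ (X s b) v) = _
  rw [app_mul (h a), mem_wtr.1 hv a, map_smul]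

variable [Fintype F] [FiniteDimensional ℂ V]

/-- splitting of an invariant subspace -/
theorem split (r : ℕ) (U : Submodule ℂ V) (hU : ∀ a, ∀ v ∈ U, ρ (X r a) v ∈ U) :
    finrank ℂ U = ∑ φ : AddChar F ℂ, finrank ℂ (U ⊓ wtr ρ r φ : Submodule ℂ V) := by
  let T : AddAct F U :=
    { toFun := fun a => (ρ (X r a)).restrict (hU a)
      map_zero' := by
        ext v
        show ρ (X r 0) (v : V) = v
        rw [X_zero, map_one]; rfl
      map_add' := by
        intro a b
        ext v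
        show ρ (X r (a + b)) (v : V) = ρ (X r a) (ρ (X r b) (v : V))
        rw [X_add, map_mul]; rfl }
  rw [T.sum_finrank_wt]
  refine Finset.sum_congr rfl fun φ _ => ?_
  have h1 : T.wt φ = (wtr ρ r φ).comap U.subtype := by
    ext v
    constructor
    · intro h a
      exact congrArg Subtype.val (h a)
    · intro h a
      exact Subtype.ext (h a)
  rw [h1]
  have h2 : finrank ℂ ((wtr ρ r φ).comap U.subtype) = finrank ℂ (((wtr ρ r φ).comap U.subtype).map U.subtype) :=
    (LinearEquiv.finrank_eq (Submodule.equivMapOfInjective U.subtype U.injective_subtype _))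
  rw [h2, Submodule.map_comap_subtype]

theorem exists_wt (r : ℕ) (U : Submodule ℂ V) (hU : ∀ a, ∀ v ∈ U, ρ (X r a) v ∈ U) (h0 : U ≠ ⊥) :
    ∃ φ : AddChar F ℂ, U ⊓ wtr ρ r φ ≠ ⊥ := by
  by_contra hcon
  push Not at hcon
  have h1 := split r U hU
  rw [Finset.sum_eq_zero (fun φ _ => by rw [hcon φ, finrank_bot])] at h1
  exact h0 (Submodule.finrank_eq_zero.1 h1)

/-- one stage: the characters of `X r` on `U` are permuted transitively -/
theorem stage (r : ℕ) (U : Submodule ℂ V) (hU : ∀ a, ∀ v ∈ U, ρ (X r a) v ∈ U) (h0 : U ≠ ⊥)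
    (hs : ∀ φ φ' : AddChar F ℂ, ∃ g, ∀ v ∈ U, v ∈ wtr ρ r φ → ρ g v ∈ U ∧ ρ g v ∈ wtr ρ r φ') {B : ℕ}
    (hB : ∀ φ : AddChar F ℂ, U ⊓ wtr ρ r φ ≠ ⊥ → B ≤ finrank ℂ (U ⊓ wtr ρ r φ : Submodule ℂ V)) :
    Fintype.card F * B ≤ finrank ℂ U := by
  obtain ⟨φ₀, h1⟩ := exists_wt r U hU h0
  rw [split r U hU]
  calc Fintype.card F * B = ∑ _φ : AddChar F ℂ, B := by
        rw [Finset.sum_const, Finset.card_univ, AddChar.card_eq, smul_eq_mul]
    _ ≤ _ := by
        refine Finset.sum_le_sum fun φ _ => hB φ ?_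
        obtain ⟨g, hg⟩ := hs φ₀ φ
        obtain ⟨v, hv, hv0⟩ := Submodule.exists_mem_ne_zero_of_ne_bot h1
        obtain ⟨h2, h3⟩ := hg v hv.1 hv.2
        intro h4
        have h5 : ρ g v ∈ (U ⊓ wtr ρ r φ : Submodule ℂ V) := ⟨h2, h3⟩
        rw [h4, Submodule.mem_bot] at h5
        exact hv0 (Heis.rep_inj ρ g h5)

end rep

theorem chk4 : ChevHeis.chkH chevF4 47 [(24, 46, 1), (26, 45, 1), (31, 43, -1), (32, 42, 1)] = true := by decide +kernel

theorem chk5 : ChevHeis.chkH chevF4 47 [(24, 46, 1), (26, 45, 1), (31, 43, -1), (32, 42, 1), (29, 44, 2)] = true := by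
  decide +kernel

/-- the 8 long roots -/
def L8 : List ℕ := [24, 26, 31, 32, 46, 45, 43, 42]

theorem chkN : L8.all (fun r => ChevHeis.nil chevF4 47 r && ChevHeis.nil chevF4 44 r && ChevHeis.nil chevF4 40 r &&
    ChevHeis.nil chevF4 29 r) = true := by decide +kernel

theorem chkM : (ChevHeis.nil chevF4 47 44 && ChevHeis.nil chevF4 47 40 && ChevHeis.nil chevF4 47 33 &&
    ChevHeis.nil chevF4 47 29 && ChevHeis.nil chevF4 47 41 && ChevHeis.nil chevF4 44 40 && ChevHeis.nil chevF4 44 33 &&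
    ChevHeis.nil chevF4 44 41) = true := by decide +kernel

theorem c4033 : ChevHeis.one chevF4 40 33 44 (-1) = true := by decide +kernel

theorem c4429 : ChevHeis.one chevF4 44 29 47 (-2) = true := by decide +kernel

theorem c2941 : chevF4.commTerms 29 41 = [(44, 1, 1, 1), (47, 1, 2, 1)] := by decide +kernel

theorem c2941' : 29 < chevF4.nroots ∧ 41 < chevF4.nroots ∧ 41 ≠ chevF4.neg 29 := by decide +kernel

/-- `x_29(t) x_41(u) = x_41(u) x_29(t) x_47(- t² u) x_44(t u)` -/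
theorem rel2941 (t u : F) : X 29 t * X 41 u = X 41 u * X 29 t * (X 47 (-(t ^ 2 * u)) * X 44 (t * u)) := by
  have h1 := Cfsg.Agent.S1025.result (F := F) chevF4 hF4 29 41 c2941'.1 c2941'.2.1 (by norm_num) c2941'.2.2 t u
  have h2 : chevF4.commWord F 29 41 t u = [(44, ((1 : ℤ) : F) * (-t) ^ 1 * u ^ 1), (47, ((1 : ℤ) : F) * (-t) ^ 2 * u ^ 1)] := by
    show (chevF4.commTerms 29 41).map _ = _
    rw [c2941]; rfl
  rw [h2, wordMat_cons, wordMat_cons, wordMat_nil, mul_one] at h1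
  have h3 : xG hF4 41 u * xG hF4 29 t = xG hF4 29 t * xG hF4 41 u * (xG hF4 44 (-(t * u)) * xG hF4 47 (t ^ 2 * u)) := by
    apply Units.ext
    rw [Units.val_mul, Units.val_mul, Units.val_mul, Units.val_mul, coe_xG, coe_xG, coe_xG, coe_xG, h1]
    congr 3
    · ring
    · ring
  apply Subtype.ext
  show xG hF4 29 t * xG hF4 41 u = xG hF4 41 u * xG hF4 29 t * (xG hF4 47 (-(t ^ 2 * u)) * xG hF4 44 (t * u))
  rw [h3]
  have h4 : xG hF4 47 (t ^ 2 * u) * xG hF4 47 (-(t ^ 2 * u)) = 1 := by rw [xG_add, add_neg_cancel, xG_zero]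
  have h5 : xG hF4 44 (-(t * u)) * xG hF4 44 (t * u) = 1 := by rw [xG_add, neg_add_cancel, xG_zero]
  calc xG hF4 29 t * xG hF4 41 u
      = xG hF4 29 t * xG hF4 41 u * (xG hF4 44 (-(t * u)) * xG hF4 44 (t * u)) := by rw [h5, mul_one]
    _ = xG hF4 29 t * xG hF4 41 u * (xG hF4 44 (-(t * u)) * (xG hF4 47 (t ^ 2 * u) * xG hF4 47 (-(t ^ 2 * u))) *
          xG hF4 44 (t * u)) := by rw [h4, mul_one]
    _ = _ := by group

section main

variable {V : Type*} [AddCommGroup V] [Module ℂ V] {ρ : Representation ℂ ↥(chevF4.group F) V} [Fintype F]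
  [FiniteDimensional ℂ V]

/-- the Heisenberg step in characteristic 2 -/
theorem four {ψ : AddChar F ℂ} (hψ : ψ ≠ 0) (U : Submodule ℂ V) (h0 : U ≠ ⊥) (h47 : ∀ v ∈ U, v ∈ wtr ρ 47 ψ)
    (hU : ∀ r ∈ L8, ∀ a, ∀ v ∈ U, ρ (X r a) v ∈ U) : Fintype.card F ^ 4 ≤ finrank ℂ U := by
  have H := hd' (F := F) hF4 chk4 (by
    intro p hp
    simp only [List.mem_cons, List.not_mem_nil, or_false] at hp
    rcases hp with rfl | rfl | rfl | rfl <;> simp)
  refine Heis.bound_aux ρ H hψ 4 le_rfl U h0 (fun v hv a => h47 v hv a) ?_ ?_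
  · intro i hi a v hv
    interval_cases i
    · exact hU 24 (by decide) a v hv
    · exact hU 26 (by decide) a v hv
    · exact hU 31 (by decide) a v hv
    · exact hU 32 (by decide) a v hv
  · intro i hi a v hv
    interval_cases i
    · exact hU 46 (by decide) a v hv
    · exact hU 45 (by decide) a v hv
    · exact hU 43 (by decide) a v hv
    · exact hU 42 (by decide) a v hv

theorem nilN {r : ℕ} (hr : r ∈ L8) : ChevHeis.nil chevF4 47 r = true ∧ ChevHeis.nil chevF4 44 r = true ∧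
    ChevHeis.nil chevF4 40 r = true ∧ ChevHeis.nil chevF4 29 r = true := by
  have h := chkN
  rw [List.all_eq_true] at h
  have h1 := h r hr
  simp only [Bool.and_eq_true] at h1
  exact ⟨h1.1.1.1, h1.1.1.2, h1.1.2, h1.2⟩

/-- **characteristic 2** -/
theorem five_even (h2 : (2 : F) = 0) {ψ : AddChar F ℂ} (hψ : ψ ≠ 0) (h0 : wtr ρ 47 ψ ≠ ⊥) :
    Fintype.card F ^ 5 ≤ finrank ℂ (wtr ρ 47 ψ : Submodule ℂ V) := by
  have hM := chkM
  simp only [Bool.and_eq_true] at hM
  obtain ⟨⟨⟨⟨⟨⟨⟨m1, m2⟩, m3⟩, m4⟩, m5⟩, m6⟩, m7⟩, m8⟩ := hM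
  have : CharP F 2 := by
    have := CharTwo.of_one_ne_zero_of_two_eq_zero (one_ne_zero (α := F)) h2
    exact this
  -- the characters of `X 44`
  obtain ⟨α, hα⟩ := exists_wt (ρ := ρ) 44 (wtr ρ 47 ψ) (fun a v hv => wtr_comm hv a fun b => nilc m1 b a) h0
  set U : Submodule ℂ V := wtr ρ 47 ψ ⊓ wtr ρ 44 α with hU
  have hle : finrank ℂ U ≤ finrank ℂ (wtr ρ 47 ψ : Submodule ℂ V) := Submodule.finrank_mono inf_le_left
  refine le_trans ?_ hle
  rw [pow_succ, mul_comm]
  have hUs : ∀ s, ChevHeis.nil chevF4 47 s = true → ChevHeis.nil chevF4 44 s = true → ∀ a, ∀ v ∈ U, ρ (X s a) v ∈ U :=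
    fun s h1 h3 a v hv => ⟨wtr_comm hv.1 a fun b => nilc h1 b a, wtr_comm hv.2 a fun b => nilc h3 b a⟩
  by_cases hα0 : α = 0
  · -- `X 41` moves the characters of `X 29`
    have h29 : ∀ a, ∀ v ∈ U, ρ (X 29 a) v ∈ U := fun a v hv => by
      refine ⟨wtr_comm hv.1 a fun b => nilc m4 b a, wtr_comm hv.2 a fun b => ?_⟩
      have h3 := c4429
      simp only [ChevHeis.one, Bool.and_eq_true, decide_eq_true_eq] at h3
      have h1 := Cfsg.Agent.S1025.result (F := F) chevF4 hF4 44 29 h3.1.1.1.1 h3.1.1.1.2 h3.1.1.2 h3.1.2 b a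
      have h4 : chevF4.commWord F 44 29 b a = [(47, ((-2 : ℤ) : F) * (-b) ^ 1 * a ^ 1)] := by
        show (chevF4.commTerms 44 29).map _ = _
        rw [h3.2]; rfl
      have h5 : ((-2 : ℤ) : F) = 0 := by push_cast; rw [h2, neg_zero]
      rw [h4, wordMat_cons, wordMat_nil, mul_one, h5, zero_mul, zero_mul] at h1
      apply Subtype.ext
      apply Units.ext
      show (xG hF4 44 b * xG hF4 29 a : GL _ F).val = (xG hF4 29 a * xG hF4 44 b : GL _ F).val
      rw [Units.val_mul, Units.val_mul, coe_xG, coe_xG, h1]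
      have h6 : chevF4.x F 47 0 = 1 := by
        have := congrArg Units.val (xG_zero (F := F) hF4 47)
        rwa [coe_xG] at this
      rw [h6, mul_one]
    refine stage 29 U h29 hα ?_ ?_
    · intro φ φ'
      -- the character `t ↦ ψ (- t² u)`
      have hfr : ∃ u : F, ∀ t : F, ψ (-(t ^ 2 * u)) = (φ' - φ) t := by
        let fr : F →+ F := (frobenius F 2).toAddMonoidHom
        have hfrb : Function.Bijective (frobenius F 2) := by
          refine (Finite.injective_iff_bijective).1 (frobenius_inj F 2)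
        let fe : F ≃+ F := AddEquiv.ofBijective fr hfrb
        let χ : AddChar F ℂ := (φ' - φ).compAddMonoidHom fe.symm.toAddMonoidHom
        obtain ⟨d, hd⟩ := exists_mulShift hψ χ
        refine ⟨-d, fun t => ?_⟩
        have h5 : χ (t ^ 2) = (φ' - φ) t := by
          show (φ' - φ) (fe.symm (t ^ 2)) = _
          congr 1
          rw [AddEquiv.symm_apply_eq]
          rfl
        rw [← h5, ← hd, AddChar.mulShift_apply]
        congr 1
        ring
      obtain ⟨u, hu⟩ := hfr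
      refine ⟨X 41 u, fun v hv hv' => ?_⟩
      have hvU := hUs 41 m5 m8 u v hv
      refine ⟨hvU, fun t => ?_⟩
      show ρ (X 29 t) (ρ (X 41 u) v) = _
      have h5 : ρ (X 29 t) (ρ (X 41 u) v) = ρ (X 41 u) (ρ (X 29 t) (ρ (X 47 (-(t ^ 2 * u))) (ρ (X 44 (t * u)) v))) := by
        have h3 := congrArg (fun g => ρ g v) (rel2941 t u)
        simpa only [map_mul, Module.End.mul_apply] using h3
      rw [h5, mem_wtr.1 hv.2, hα0, AddChar.zero_apply, one_smul, mem_wtr.1 hv.1, map_smul, mem_wtr.1 hv', map_smul,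
        map_smul, smul_smul, hu t, AddChar.sub_apply, mul_assoc, neg_mul_self' φ t, mul_one]
    · intro φ hφ
      refine four hψ _ hφ (fun v hv => hv.1.1) fun r hr a v hv => ?_
      obtain ⟨n1, n2, n3, n4⟩ := nilN hr
      exact ⟨hUs r n1 n2 a v hv.1, wtr_comm hv.2 a fun b => nilc n4 b a⟩
  · -- `X 33` moves the characters of `X 40`
    refine stage 40 U (hUs 40 m2 m6) hα ?_ ?_
    · intro φ φ'
      obtain ⟨d, hd⟩ := exists_mulShift hα0 (φ' - φ)
      refine ⟨X 33 (-d), fun v hv hv' => ?_⟩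
      refine ⟨hUs 33 m3 m7 _ v hv, fun t => ?_⟩
      show ρ (X 40 t) (ρ (X 33 (-d)) v) = _
      have h3 := c4033
      simp only [ChevHeis.one, Bool.and_eq_true, decide_eq_true_eq] at h3
      have h6 := comm_one (F := F) hF4 h3.1.1.1.1 h3.1.1.1.2 h3.1.1.2 h3.1.2 h3.2
        (fun t u => (ChevHeis.nil_comm hF4 m6 u t).symm) (fun t u => (ChevHeis.nil_comm hF4 m7 u t).symm) t (-d)
      rw [commutatorElement_def, mul_inv_eq_iff_eq_mul, mul_inv_eq_iff_eq_mul] at h6
      have h7 : X 40 t * X 33 (-d) = X 44 (((-1 : ℤ) : F) * t * (-d)) * X 33 (-d) * X 40 t := Subtype.ext h6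
      have h8 : ρ (X 40 t) (ρ (X 33 (-d)) v) = ρ (X 44 (((-1 : ℤ) : F) * t * (-d))) (ρ (X 33 (-d)) (ρ (X 40 t) v)) := by
        have h3 := congrArg (fun g => ρ g v) h7
        simpa only [map_mul, Module.End.mul_apply] using h3
      rw [h8, mem_wtr.1 hv', map_smul, map_smul, mem_wtr.1 (hUs 33 m3 m7 _ v hv).2, smul_smul]
      congr 1
      have h9 : α (((-1 : ℤ) : F) * t * (-d)) = (φ' - φ) t := by
        rw [← hd, AddChar.mulShift_apply]
        congr 1
        push_cast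
        ring
      rw [h9, AddChar.sub_apply, mul_left_comm, mul_comm (φ t), neg_mul_self' φ t, mul_one]
    · intro φ hφ
      refine four hψ _ hφ (fun v hv => hv.1.1) fun r hr a v hv => ?_
      obtain ⟨n1, n2, n3, n4⟩ := nilN hr
      exact ⟨hUs r n1 n2 a v hv.1, wtr_comm hv.2 a fun b => nilc n3 b a⟩

/-- **odd characteristic** -/
theorem five_odd (h2 : (2 : F) ≠ 0) {ψ : AddChar F ℂ} (hψ : ψ ≠ 0) (h0 : wtr ρ 47 ψ ≠ ⊥) :
    Fintype.card F ^ 5 ≤ finrank ℂ (wtr ρ 47 ψ : Submodule ℂ V) := by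
  have H := hd' (F := F) hF4 chk5 (by
    intro p hp
    simp only [List.mem_cons, List.not_mem_nil, or_false] at hp
    rcases hp with rfl | rfl | rfl | rfl | rfl <;> simp [h2])
  refine Heis.bound_aux ρ H hψ 5 le_rfl (wtr ρ 47 ψ) h0 (fun v hv a => hv a) ?_ ?_
  · intro i hi a v hv
    exact wtr_comm hv a fun b => H.zx i hi b a
  · intro i hi a v hv
    exact wtr_comm hv a fun b => H.zy i hi b a

end main

/-- **`F₄(q)`**: nontrivial representations have degree at least `q ^ 4 (q ^ 2 - 1)`. -/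
theorem minDeg_F4 (F : Type u) [Field F] [Fintype F] :
    MinDeg ↥(chevF4.group F) (Fintype.card F ^ 4 * (Fintype.card F ^ 2 - 1)) := by
  classical
  have hsimp : IsSimpleGroup ↥(chevF4.group F) := (Cfsg.Agent.S1054.result chevF4 (by simp)).1
  intro M _ _ _ ρ hρ
  have H := Cfsg.Agent.H120.CycExc.FFour.sys4 ρ
  -- `XF (fVec 23) = X 47`
  have hX : ∀ a : F, Cfsg.Agent.H120.CycExc.FFour.XF (Cfsg.Agent.H120.CycExc.FFour.fVec 23) a = X 47 a := fun a => by
    apply Subtype.ext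
    show xG hF4 (Cfsg.Agent.H120.CycExc.FFour.ix (Cfsg.Agent.H120.CycExc.FFour.fVec 23)) a = xG hF4 47 a
    rw [Cfsg.Agent.H120.CycExc.FFour.ix_vec]
    rfl
  have hne : ∃ a, X 47 a ≠ (1 : ↥(chevF4.group F)) := ⟨1, fun h => one_ne_zero
    ((xG_eq_one_iff hF4 (by decide +kernel : 47 < chevF4.nroots) (1 : F)).1 (congrArg Subtype.val h))⟩
  obtain ⟨a, ha⟩ := hne
  have h1 : ρ (X 47 a) ≠ 1 := Cfsg.Agent.H121.Chr.faithful ρ hρ ha
  have hr : Cfsg.Agent.H120.CycExc.FFour.fVec 23 ∈ Cfsg.Agent.H120.CycExc.FFour.Phi4 := ⟨23, rfl⟩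
  have h2 : ∃ a v, (H.act hr).toFun a v ≠ v := by
    by_contra hc
    push Not at hc
    apply h1
    ext v
    have := hc a v
    rw [← hX]
    exact this
  obtain ⟨φ, hφ, h3⟩ := AddAct.exists_wt_ne _ h2
  have hwt : wt (fun v (a : F) => ρ (Cfsg.Agent.H120.CycExc.FFour.XF v a)) (Cfsg.Agent.H120.CycExc.FFour.fVec 23) φ =
      wtr ρ 47 φ := by
    ext v
    constructor
    · intro h b
      have := h b
      simp only [hX] at this
      exact this
    · intro h b
      have := h b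
      simp only [hX]
      exact this
  have h3' : wtr ρ 47 φ ≠ ⊥ := by
    rw [← hwt]
    exact h3
  have h4 : Fintype.card F ^ 5 ≤ finrank ℂ (wtr ρ 47 φ : Submodule ℂ M) := by
    by_cases h : (2 : F) = 0
    · exact five_even h hφ h3'
    · exact five_odd h hφ h3'
  have hs : Cfsg.Agent.H120.CycExc.FFour.fVec 22 ∈ Cfsg.Agent.H120.CycExc.FFour.Phi4 := ⟨22, rfl⟩
  have h7 := H.bound_two Cfsg.Agent.H120.CycExc.FFour.roots hr hs (by decide +kernel) hφ
  rw [hwt] at h7
  have hq : 0 < Fintype.card F := Fintype.card_pos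
  refine Nat.le_of_mul_le_mul_left (c := Fintype.card F) ?_ hq
  refine le_trans ?_ h7
  calc Fintype.card F * (Fintype.card F ^ 4 * (Fintype.card F ^ 2 - 1))
      = (Fintype.card F ^ 2 - 1) * Fintype.card F ^ 5 := by ring
    _ ≤ _ := Nat.mul_le_mul_left _ h4

end Cfsg.Agent.H267.ConjF4
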